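import Cfsg.Agent.Spor.An8.D0

set_option autoImplicit false
set_option maxRecDepth 100000000
set_option Elab.async false

namespace Cfsg.Agent.Spor.An8

theorem ok0 : Net.okb 3 n0 = true := by decide +kernel

theorem ok1 : Net.okb 3 n1 = true := by decide +kernel

theorem ok2 : Net.okb 3 n2 = true := by decide +kernel

theorem ok3 : Net.okb 3 n3 = true := by decide +kernel

theorem ok4 : Net.okb 3 n4 = true := by decide +kernel

theorem ok5 : Net.okb 3 n5 = true := by decide +kernel

theorem rel0 : T.rel 3 [1, 1, 1] 0 3 = true := by decide +kernel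

theorem rel1 : T.rel 3 [2, 2, 2] 0 3 = true := by decide +kernel

theorem rel2 : T.rel 3 [3, 3, 3] 0 3 = true := by decide +kernel

theorem rel3 : T.rel 3 [4, 4, 4] 0 3 = true := by decide +kernel

theorem rel4 : T.rel 3 [5, 5, 5] 0 3 = true := by decide +kernel

theorem rel5 : T.rel 3 [6, 6, 6] 0 3 = true := by decide +kernel

theorem rel6 : T.rel 3 [2, 1, 2, 1] 0 3 = true := by decide +kernel

theorem rel7 : T.rel 3 [3, 1, 3, 1] 0 3 = true := by decide +kernel

theorem rel8 : T.rel 3 [4, 1, 4, 1] 0 3 = true := by decide +kernel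

theorem rel9 : T.rel 3 [5, 1, 5, 1] 0 3 = true := by decide +kernel

theorem rel10 : T.rel 3 [6, 1, 6, 1] 0 3 = true := by decide +kernel

theorem rel11 : T.rel 3 [3, 2, 3, 2] 0 3 = true := by decide +kernel

theorem rel12 : T.rel 3 [4, 2, 4, 2] 0 3 = true := by decide +kernel

theorem rel13 : T.rel 3 [5, 2, 5, 2] 0 3 = true := by decide +kernel

theorem rel14 : T.rel 3 [6, 2, 6, 2] 0 3 = true := by decide +kernel

theorem rel15 : T.rel 3 [4, 3, 4, 3] 0 3 = true := by decide +kernel

theorem rel16 : T.rel 3 [5, 3, 5, 3] 0 3 = true := by decide +kernel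

theorem rel17 : T.rel 3 [6, 3, 6, 3] 0 3 = true := by decide +kernel

theorem rel18 : T.rel 3 [5, 4, 5, 4] 0 3 = true := by decide +kernel

theorem rel19 : T.rel 3 [6, 4, 6, 4] 0 3 = true := by decide +kernel

theorem rel20 : T.rel 3 [6, 5, 6, 5] 0 3 = true := by decide +kernel

theorem hcov : T.treeCov (ones 8) L 1 = true := by decide +kernel

theorem hg : lall (fun z => band (memL L z) (band (sub (ones 8) (T.let z).cl) (T.closed (ones 8) z))) gs = true := by decide +kernel

theorem rot1_1 : T.rot 1 [7] (sel (ones 8) ip1 1) = true := by decide +kernel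

theorem rot1_1r : band (Rule.ok (2 * 0) EX RL ⟨1 :: [7], [], 21, false⟩) (lall (memL L) [7]) = true := by decide +kernel

theorem rot1_2 : T.rot 1 [1, 1] (sel (ones 8) ip1 2) = true := by decide +kernel

theorem rot1_2r : band (Rule.ok (2 * 0) EX RL ⟨1 :: [1, 1], [], 0, true⟩) (lall (memL L) [1, 1]) = true := by decide +kernel

theorem rot1_3 : T.rot 1 [2, 1, 2] (sel (ones 8) ip1 3) = true := by decide +kernel

theorem rot1_3r : band (Rule.ok (2 * 0) EX RL ⟨1 :: [2, 1, 2], [0], 6, true⟩) (lall (memL L) [2, 1, 2]) = true := by decide +kernel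

theorem rot1_4 : T.rot 1 [3, 1, 3] (sel (ones 8) ip1 4) = true := by decide +kernel

theorem rot1_4r : band (Rule.ok (2 * 0) EX RL ⟨1 :: [3, 1, 3], [0], 7, true⟩) (lall (memL L) [3, 1, 3]) = true := by decide +kernel

theorem rot1_5 : T.rot 1 [4, 1, 4] (sel (ones 8) ip1 5) = true := by decide +kernel

theorem rot1_5r : band (Rule.ok (2 * 0) EX RL ⟨1 :: [4, 1, 4], [0], 8, true⟩) (lall (memL L) [4, 1, 4]) = true := by decide +kernel

theorem rot1_6 : T.rot 1 [5, 1, 5] (sel (ones 8) ip1 6) = true := by decide +kernel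

theorem rot1_6r : band (Rule.ok (2 * 0) EX RL ⟨1 :: [5, 1, 5], [0], 9, true⟩) (lall (memL L) [5, 1, 5]) = true := by decide +kernel

theorem rot1_7 : T.rot 1 [6, 1, 6] (sel (ones 8) ip1 7) = true := by decide +kernel

theorem rot1_7r : band (Rule.ok (2 * 0) EX RL ⟨1 :: [6, 1, 6], [0], 10, true⟩) (lall (memL L) [6, 1, 6]) = true := by decide +kernel

theorem cov1 : T.cover 1 [(sel (ones 8) ip1 1), (sel (ones 8) ip1 2), (sel (ones 8) ip1 3), (sel (ones 8) ip1 4), (sel (ones 8) ip1 5), (sel (ones 8) ip1 6), (sel (ones 8) ip1 7), 1] = true := by decide +kernel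

theorem tl1 : Nat.beq (T.let 1).tt 0 = true := by decide +kernel

theorem rot2_1 : T.rot 2 [8] (sel (ones 8) ip2 1) = true := by decide +kernel

theorem rot2_1r : band (Rule.ok (2 * 0) EX RL ⟨2 :: [8], [], 21, false⟩) (lall (memL L) [8]) = true := by decide +kernel

theorem rot2_2 : T.rot 2 [2, 2] (sel (ones 8) ip2 2) = true := by decide +kernel

theorem rot2_2r : band (Rule.ok (2 * 0) EX RL ⟨2 :: [2, 2], [], 1, true⟩) (lall (memL L) [2, 2]) = true := by decide +kernel

theorem rot2_3 : T.rot 2 [1, 2, 1] (sel (ones 8) ip2 3) = true := by decide +kernel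

theorem rot2_3r : band (Rule.ok (2 * 0) EX RL ⟨2 :: [1, 2, 1], [], 6, true⟩) (lall (memL L) [1, 2, 1]) = true := by decide +kernel

theorem rot2_4 : T.rot 2 [3, 2, 3] (sel (ones 8) ip2 4) = true := by decide +kernel

theorem rot2_4r : band (Rule.ok (2 * 0) EX RL ⟨2 :: [3, 2, 3], [2], 11, true⟩) (lall (memL L) [3, 2, 3]) = true := by decide +kernel

theorem rot2_5 : T.rot 2 [4, 2, 4] (sel (ones 8) ip2 5) = true := by decide +kernel

theorem rot2_5r : band (Rule.ok (2 * 0) EX RL ⟨2 :: [4, 2, 4], [2], 12, true⟩) (lall (memL L) [4, 2, 4]) = true := by decide +kernel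

theorem rot2_6 : T.rot 2 [5, 2, 5] (sel (ones 8) ip2 6) = true := by decide +kernel

theorem rot2_6r : band (Rule.ok (2 * 0) EX RL ⟨2 :: [5, 2, 5], [2], 13, true⟩) (lall (memL L) [5, 2, 5]) = true := by decide +kernel

theorem rot2_7 : T.rot 2 [6, 2, 6] (sel (ones 8) ip2 7) = true := by decide +kernel

theorem rot2_7r : band (Rule.ok (2 * 0) EX RL ⟨2 :: [6, 2, 6], [2], 14, true⟩) (lall (memL L) [6, 2, 6]) = true := by decide +kernel

theorem cov2 : T.cover 2 [(sel (ones 8) ip2 1), (sel (ones 8) ip2 2), (sel (ones 8) ip2 3), (sel (ones 8) ip2 4), (sel (ones 8) ip2 5), (sel (ones 8) ip2 6), (sel (ones 8) ip2 7), 1] = true := by decide +kernel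

theorem tl2 : Nat.beq (T.let 2).tt 0 = true := by decide +kernel

theorem rot3_1 : T.rot 3 [9] (sel (ones 8) ip3 1) = true := by decide +kernel

theorem rot3_1r : band (Rule.ok (2 * 0) EX RL ⟨3 :: [9], [], 21, false⟩) (lall (memL L) [9]) = true := by decide +kernel

theorem rot3_2 : T.rot 3 [3, 3] (sel (ones 8) ip3 2) = true := by decide +kernel

theorem rot3_2r : band (Rule.ok (2 * 0) EX RL ⟨3 :: [3, 3], [], 2, true⟩) (lall (memL L) [3, 3]) = true := by decide +kernel

theorem rot3_3 : T.rot 3 [1, 3, 1] (sel (ones 8) ip3 3) = true := by decide +kernel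

theorem rot3_3r : band (Rule.ok (2 * 0) EX RL ⟨3 :: [1, 3, 1], [], 7, true⟩) (lall (memL L) [1, 3, 1]) = true := by decide +kernel

theorem rot3_4 : T.rot 3 [2, 3, 2] (sel (ones 8) ip3 4) = true := by decide +kernel

theorem rot3_4r : band (Rule.ok (2 * 0) EX RL ⟨3 :: [2, 3, 2], [], 11, true⟩) (lall (memL L) [2, 3, 2]) = true := by decide +kernel

theorem rot3_5 : T.rot 3 [4, 3, 4] (sel (ones 8) ip3 5) = true := by decide +kernel

theorem rot3_5r : band (Rule.ok (2 * 0) EX RL ⟨3 :: [4, 3, 4], [4], 15, true⟩) (lall (memL L) [4, 3, 4]) = true := by decide +kernel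

theorem rot3_6 : T.rot 3 [5, 3, 5] (sel (ones 8) ip3 6) = true := by decide +kernel

theorem rot3_6r : band (Rule.ok (2 * 0) EX RL ⟨3 :: [5, 3, 5], [4], 16, true⟩) (lall (memL L) [5, 3, 5]) = true := by decide +kernel

theorem rot3_7 : T.rot 3 [6, 3, 6] (sel (ones 8) ip3 7) = true := by decide +kernel

theorem rot3_7r : band (Rule.ok (2 * 0) EX RL ⟨3 :: [6, 3, 6], [4], 17, true⟩) (lall (memL L) [6, 3, 6]) = true := by decide +kernel

theorem cov3 : T.cover 3 [(sel (ones 8) ip3 1), (sel (ones 8) ip3 2), (sel (ones 8) ip3 3), (sel (ones 8) ip3 4), (sel (ones 8) ip3 5), (sel (ones 8) ip3 6), (sel (ones 8) ip3 7), 1] = true := by decide +kernel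

theorem tl3 : Nat.beq (T.let 3).tt 0 = true := by decide +kernel

theorem rot4_1 : T.rot 4 [10] (sel (ones 8) ip4 1) = true := by decide +kernel

theorem rot4_1r : band (Rule.ok (2 * 0) EX RL ⟨4 :: [10], [], 21, false⟩) (lall (memL L) [10]) = true := by decide +kernel

theorem rot4_2 : T.rot 4 [4, 4] (sel (ones 8) ip4 2) = true := by decide +kernel

theorem rot4_2r : band (Rule.ok (2 * 0) EX RL ⟨4 :: [4, 4], [], 3, true⟩) (lall (memL L) [4, 4]) = true := by decide +kernel

theorem rot4_3 : T.rot 4 [1, 4, 1] (sel (ones 8) ip4 3) = true := by decide +kernel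

theorem rot4_3r : band (Rule.ok (2 * 0) EX RL ⟨4 :: [1, 4, 1], [], 8, true⟩) (lall (memL L) [1, 4, 1]) = true := by decide +kernel

theorem rot4_4 : T.rot 4 [2, 4, 2] (sel (ones 8) ip4 4) = true := by decide +kernel

theorem rot4_4r : band (Rule.ok (2 * 0) EX RL ⟨4 :: [2, 4, 2], [], 12, true⟩) (lall (memL L) [2, 4, 2]) = true := by decide +kernel

theorem rot4_5 : T.rot 4 [3, 4, 3] (sel (ones 8) ip4 5) = true := by decide +kernel

theorem rot4_5r : band (Rule.ok (2 * 0) EX RL ⟨4 :: [3, 4, 3], [], 15, true⟩) (lall (memL L) [3, 4, 3]) = true := by decide +kernel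

theorem rot4_6 : T.rot 4 [5, 4, 5] (sel (ones 8) ip4 6) = true := by decide +kernel

theorem rot4_6r : band (Rule.ok (2 * 0) EX RL ⟨4 :: [5, 4, 5], [6], 18, true⟩) (lall (memL L) [5, 4, 5]) = true := by decide +kernel

theorem rot4_7 : T.rot 4 [6, 4, 6] (sel (ones 8) ip4 7) = true := by decide +kernel

theorem rot4_7r : band (Rule.ok (2 * 0) EX RL ⟨4 :: [6, 4, 6], [6], 19, true⟩) (lall (memL L) [6, 4, 6]) = true := by decide +kernel

theorem cov4 : T.cover 4 [(sel (ones 8) ip4 1), (sel (ones 8) ip4 2), (sel (ones 8) ip4 3), (sel (ones 8) ip4 4), (sel (ones 8) ip4 5), (sel (ones 8) ip4 6), (sel (ones 8) ip4 7), 1] = true := by decide +kernel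

theorem tl4 : Nat.beq (T.let 4).tt 0 = true := by decide +kernel

theorem rot5_1 : T.rot 5 [11] (sel (ones 8) ip5 1) = true := by decide +kernel

theorem rot5_1r : band (Rule.ok (2 * 0) EX RL ⟨5 :: [11], [], 21, false⟩) (lall (memL L) [11]) = true := by decide +kernel

theorem rot5_2 : T.rot 5 [5, 5] (sel (ones 8) ip5 2) = true := by decide +kernel

theorem rot5_2r : band (Rule.ok (2 * 0) EX RL ⟨5 :: [5, 5], [], 4, true⟩) (lall (memL L) [5, 5]) = true := by decide +kernel

theorem rot5_3 : T.rot 5 [1, 5, 1] (sel (ones 8) ip5 3) = true := by decide +kernel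

theorem rot5_3r : band (Rule.ok (2 * 0) EX RL ⟨5 :: [1, 5, 1], [], 9, true⟩) (lall (memL L) [1, 5, 1]) = true := by decide +kernel

theorem rot5_4 : T.rot 5 [2, 5, 2] (sel (ones 8) ip5 4) = true := by decide +kernel

theorem rot5_4r : band (Rule.ok (2 * 0) EX RL ⟨5 :: [2, 5, 2], [], 13, true⟩) (lall (memL L) [2, 5, 2]) = true := by decide +kernel

theorem rot5_5 : T.rot 5 [3, 5, 3] (sel (ones 8) ip5 5) = true := by decide +kernel

theorem rot5_5r : band (Rule.ok (2 * 0) EX RL ⟨5 :: [3, 5, 3], [], 16, true⟩) (lall (memL L) [3, 5, 3]) = true := by decide +kernel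

theorem rot5_6 : T.rot 5 [4, 5, 4] (sel (ones 8) ip5 6) = true := by decide +kernel

theorem rot5_6r : band (Rule.ok (2 * 0) EX RL ⟨5 :: [4, 5, 4], [], 18, true⟩) (lall (memL L) [4, 5, 4]) = true := by decide +kernel

theorem rot5_7 : T.rot 5 [6, 5, 6] (sel (ones 8) ip5 7) = true := by decide +kernel

theorem rot5_7r : band (Rule.ok (2 * 0) EX RL ⟨5 :: [6, 5, 6], [8], 20, true⟩) (lall (memL L) [6, 5, 6]) = true := by decide +kernel

theorem cov5 : T.cover 5 [(sel (ones 8) ip5 1), (sel (ones 8) ip5 2), (sel (ones 8) ip5 3), (sel (ones 8) ip5 4), (sel (ones 8) ip5 5), (sel (ones 8) ip5 6), (sel (ones 8) ip5 7), 1] = true := by decide +kernel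

theorem tl5 : Nat.beq (T.let 5).tt 0 = true := by decide +kernel

theorem rot6_1 : T.rot 6 [12] (sel (ones 8) ip6 1) = true := by decide +kernel

theorem rot6_1r : band (Rule.ok (2 * 0) EX RL ⟨6 :: [12], [], 21, false⟩) (lall (memL L) [12]) = true := by decide +kernel

theorem rot6_2 : T.rot 6 [6, 6] (sel (ones 8) ip6 2) = true := by decide +kernel

theorem rot6_2r : band (Rule.ok (2 * 0) EX RL ⟨6 :: [6, 6], [], 5, true⟩) (lall (memL L) [6, 6]) = true := by decide +kernel

theorem rot6_3 : T.rot 6 [1, 6, 1] (sel (ones 8) ip6 3) = true := by decide +kernel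

theorem rot6_3r : band (Rule.ok (2 * 0) EX RL ⟨6 :: [1, 6, 1], [], 10, true⟩) (lall (memL L) [1, 6, 1]) = true := by decide +kernel

theorem rot6_4 : T.rot 6 [2, 6, 2] (sel (ones 8) ip6 4) = true := by decide +kernel

theorem rot6_4r : band (Rule.ok (2 * 0) EX RL ⟨6 :: [2, 6, 2], [], 14, true⟩) (lall (memL L) [2, 6, 2]) = true := by decide +kernel

theorem rot6_5 : T.rot 6 [3, 6, 3] (sel (ones 8) ip6 5) = true := by decide +kernel

theorem rot6_5r : band (Rule.ok (2 * 0) EX RL ⟨6 :: [3, 6, 3], [], 17, true⟩) (lall (memL L) [3, 6, 3]) = true := by decide +kernel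

theorem rot6_6 : T.rot 6 [4, 6, 4] (sel (ones 8) ip6 6) = true := by decide +kernel

theorem rot6_6r : band (Rule.ok (2 * 0) EX RL ⟨6 :: [4, 6, 4], [], 19, true⟩) (lall (memL L) [4, 6, 4]) = true := by decide +kernel

theorem rot6_7 : T.rot 6 [5, 6, 5] (sel (ones 8) ip6 7) = true := by decide +kernel

theorem rot6_7r : band (Rule.ok (2 * 0) EX RL ⟨6 :: [5, 6, 5], [], 20, true⟩) (lall (memL L) [5, 6, 5]) = true := by decide +kernel

theorem cov6 : T.cover 6 [(sel (ones 8) ip6 1), (sel (ones 8) ip6 2), (sel (ones 8) ip6 3), (sel (ones 8) ip6 4), (sel (ones 8) ip6 5), (sel (ones 8) ip6 6), (sel (ones 8) ip6 7)] = true := by decide +kernel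

theorem tl6 : T.treeLt 3 6 = true := by decide +kernel

theorem rot7_1 : T.rot 7 [1] (sel (ones 8) ip7 1) = true := by decide +kernel

theorem rot7_1r : band (Rule.ok (2 * 0) EX RL ⟨7 :: [1], [], 21, false⟩) (lall (memL L) [1]) = true := by decide +kernel

theorem rot7_2 : T.rot 7 [7, 7] (sel (ones 8) ip7 2) = true := by decide +kernel

theorem rot7_2r : band (Rule.ok (2 * 0) EX RL ⟨7 :: [7, 7], [], 0, false⟩) (lall (memL L) [7, 7]) = true := by decide +kernel

theorem rot7_3 : T.rot 7 [8, 7, 8] (sel (ones 8) ip7 3) = true := by decide +kernel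

theorem rot7_3r : band (Rule.ok (2 * 0) EX RL ⟨7 :: [8, 7, 8], [], 6, false⟩) (lall (memL L) [8, 7, 8]) = true := by decide +kernel

theorem rot7_4 : T.rot 7 [9, 7, 9] (sel (ones 8) ip7 4) = true := by decide +kernel

theorem rot7_4r : band (Rule.ok (2 * 0) EX RL ⟨7 :: [9, 7, 9], [], 7, false⟩) (lall (memL L) [9, 7, 9]) = true := by decide +kernel

theorem rot7_5 : T.rot 7 [10, 7, 10] (sel (ones 8) ip7 5) = true := by decide +kernel

theorem rot7_5r : band (Rule.ok (2 * 0) EX RL ⟨7 :: [10, 7, 10], [], 8, false⟩) (lall (memL L) [10, 7, 10]) = true := by decide +kernel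

theorem rot7_6 : T.rot 7 [11, 7, 11] (sel (ones 8) ip7 6) = true := by decide +kernel

theorem rot7_6r : band (Rule.ok (2 * 0) EX RL ⟨7 :: [11, 7, 11], [], 9, false⟩) (lall (memL L) [11, 7, 11]) = true := by decide +kernel

theorem rot7_7 : T.rot 7 [12, 7, 12] (sel (ones 8) ip7 7) = true := by decide +kernel

theorem rot7_7r : band (Rule.ok (2 * 0) EX RL ⟨7 :: [12, 7, 12], [], 10, false⟩) (lall (memL L) [12, 7, 12]) = true := by decide +kernel

theorem cov7 : T.cover 7 [(sel (ones 8) ip7 1), (sel (ones 8) ip7 2), (sel (ones 8) ip7 3), (sel (ones 8) ip7 4), (sel (ones 8) ip7 5), (sel (ones 8) ip7 6), (sel (ones 8) ip7 7)] = true := by decide +kernel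

theorem tl7 : T.treeLt 3 7 = true := by decide +kernel

theorem rot8_1 : T.rot 8 [2] (sel (ones 8) ip8 1) = true := by decide +kernel

theorem rot8_1r : band (Rule.ok (2 * 0) EX RL ⟨8 :: [2], [], 21, false⟩) (lall (memL L) [2]) = true := by decide +kernel

theorem rot8_2 : T.rot 8 [8, 8] (sel (ones 8) ip8 2) = true := by decide +kernel

theorem rot8_2r : band (Rule.ok (2 * 0) EX RL ⟨8 :: [8, 8], [], 1, false⟩) (lall (memL L) [8, 8]) = true := by decide +kernel

theorem rot8_3 : T.rot 8 [7, 8, 7] (sel (ones 8) ip8 3) = true := by decide +kernel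

theorem rot8_3r : band (Rule.ok (2 * 0) EX RL ⟨8 :: [7, 8, 7], [3], 6, false⟩) (lall (memL L) [7, 8, 7]) = true := by decide +kernel

theorem rot8_4 : T.rot 8 [9, 8, 9] (sel (ones 8) ip8 4) = true := by decide +kernel

theorem rot8_4r : band (Rule.ok (2 * 0) EX RL ⟨8 :: [9, 8, 9], [], 11, false⟩) (lall (memL L) [9, 8, 9]) = true := by decide +kernel

theorem rot8_5 : T.rot 8 [10, 8, 10] (sel (ones 8) ip8 5) = true := by decide +kernel

theorem rot8_5r : band (Rule.ok (2 * 0) EX RL ⟨8 :: [10, 8, 10], [], 12, false⟩) (lall (memL L) [10, 8, 10]) = true := by decide +kernel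

theorem rot8_6 : T.rot 8 [11, 8, 11] (sel (ones 8) ip8 6) = true := by decide +kernel

theorem rot8_6r : band (Rule.ok (2 * 0) EX RL ⟨8 :: [11, 8, 11], [], 13, false⟩) (lall (memL L) [11, 8, 11]) = true := by decide +kernel

theorem rot8_7 : T.rot 8 [12, 8, 12] (sel (ones 8) ip8 7) = true := by decide +kernel

theorem rot8_7r : band (Rule.ok (2 * 0) EX RL ⟨8 :: [12, 8, 12], [], 14, false⟩) (lall (memL L) [12, 8, 12]) = true := by decide +kernel

theorem cov8 : T.cover 8 [(sel (ones 8) ip8 1), (sel (ones 8) ip8 2), (sel (ones 8) ip8 3), (sel (ones 8) ip8 4), (sel (ones 8) ip8 5), (sel (ones 8) ip8 6), (sel (ones 8) ip8 7)] = true := by decide +kernel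

theorem tl8 : T.treeLt 3 8 = true := by decide +kernel

theorem rot9_1 : T.rot 9 [3] (sel (ones 8) ip9 1) = true := by decide +kernel

theorem rot9_1r : band (Rule.ok (2 * 0) EX RL ⟨9 :: [3], [], 21, false⟩) (lall (memL L) [3]) = true := by decide +kernel

theorem rot9_2 : T.rot 9 [9, 9] (sel (ones 8) ip9 2) = true := by decide +kernel

theorem rot9_2r : band (Rule.ok (2 * 0) EX RL ⟨9 :: [9, 9], [], 2, false⟩) (lall (memL L) [9, 9]) = true := by decide +kernel

theorem rot9_3 : T.rot 9 [7, 9, 7] (sel (ones 8) ip9 3) = true := by decide +kernel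

theorem rot9_3r : band (Rule.ok (2 * 0) EX RL ⟨9 :: [7, 9, 7], [5], 7, false⟩) (lall (memL L) [7, 9, 7]) = true := by decide +kernel

theorem rot9_4 : T.rot 9 [8, 9, 8] (sel (ones 8) ip9 4) = true := by decide +kernel

theorem rot9_4r : band (Rule.ok (2 * 0) EX RL ⟨9 :: [8, 9, 8], [5], 11, false⟩) (lall (memL L) [8, 9, 8]) = true := by decide +kernel

theorem rot9_5 : T.rot 9 [10, 9, 10] (sel (ones 8) ip9 5) = true := by decide +kernel

theorem rot9_5r : band (Rule.ok (2 * 0) EX RL ⟨9 :: [10, 9, 10], [], 15, false⟩) (lall (memL L) [10, 9, 10]) = true := by decide +kernel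

theorem rot9_6 : T.rot 9 [11, 9, 11] (sel (ones 8) ip9 6) = true := by decide +kernel

theorem rot9_6r : band (Rule.ok (2 * 0) EX RL ⟨9 :: [11, 9, 11], [], 16, false⟩) (lall (memL L) [11, 9, 11]) = true := by decide +kernel

theorem rot9_7 : T.rot 9 [12, 9, 12] (sel (ones 8) ip9 7) = true := by decide +kernel

theorem rot9_7r : band (Rule.ok (2 * 0) EX RL ⟨9 :: [12, 9, 12], [], 17, false⟩) (lall (memL L) [12, 9, 12]) = true := by decide +kernel

theorem cov9 : T.cover 9 [(sel (ones 8) ip9 1), (sel (ones 8) ip9 2), (sel (ones 8) ip9 3), (sel (ones 8) ip9 4), (sel (ones 8) ip9 5), (sel (ones 8) ip9 6), (sel (ones 8) ip9 7)] = true := by decide +kernel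

theorem tl9 : T.treeLt 3 9 = true := by decide +kernel

theorem rot10_1 : T.rot 10 [4] (sel (ones 8) ip10 1) = true := by decide +kernel

theorem rot10_1r : band (Rule.ok (2 * 0) EX RL ⟨10 :: [4], [], 21, false⟩) (lall (memL L) [4]) = true := by decide +kernel

theorem rot10_2 : T.rot 10 [10, 10] (sel (ones 8) ip10 2) = true := by decide +kernel

theorem rot10_2r : band (Rule.ok (2 * 0) EX RL ⟨10 :: [10, 10], [], 3, false⟩) (lall (memL L) [10, 10]) = true := by decide +kernel

theorem rot10_3 : T.rot 10 [7, 10, 7] (sel (ones 8) ip10 3) = true := by decide +kernel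

theorem rot10_3r : band (Rule.ok (2 * 0) EX RL ⟨10 :: [7, 10, 7], [7], 8, false⟩) (lall (memL L) [7, 10, 7]) = true := by decide +kernel

theorem rot10_4 : T.rot 10 [8, 10, 8] (sel (ones 8) ip10 4) = true := by decide +kernel

theorem rot10_4r : band (Rule.ok (2 * 0) EX RL ⟨10 :: [8, 10, 8], [7], 12, false⟩) (lall (memL L) [8, 10, 8]) = true := by decide +kernel

theorem rot10_5 : T.rot 10 [9, 10, 9] (sel (ones 8) ip10 5) = true := by decide +kernel

theorem rot10_5r : band (Rule.ok (2 * 0) EX RL ⟨10 :: [9, 10, 9], [7], 15, false⟩) (lall (memL L) [9, 10, 9]) = true := by decide +kernel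

theorem rot10_6 : T.rot 10 [11, 10, 11] (sel (ones 8) ip10 6) = true := by decide +kernel

theorem rot10_6r : band (Rule.ok (2 * 0) EX RL ⟨10 :: [11, 10, 11], [], 18, false⟩) (lall (memL L) [11, 10, 11]) = true := by decide +kernel

theorem rot10_7 : T.rot 10 [12, 10, 12] (sel (ones 8) ip10 7) = true := by decide +kernel

theorem rot10_7r : band (Rule.ok (2 * 0) EX RL ⟨10 :: [12, 10, 12], [], 19, false⟩) (lall (memL L) [12, 10, 12]) = true := by decide +kernel

theorem cov10 : T.cover 10 [(sel (ones 8) ip10 1), (sel (ones 8) ip10 2), (sel (ones 8) ip10 3), (sel (ones 8) ip10 4), (sel (ones 8) ip10 5), (sel (ones 8) ip10 6), (sel (ones 8) ip10 7)] = true := by decide +kernel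

theorem tl10 : T.treeLt 3 10 = true := by decide +kernel

theorem rot11_1 : T.rot 11 [5] (sel (ones 8) ip11 1) = true := by decide +kernel

theorem rot11_1r : band (Rule.ok (2 * 0) EX RL ⟨11 :: [5], [], 21, false⟩) (lall (memL L) [5]) = true := by decide +kernel

theorem rot11_2 : T.rot 11 [11, 11] (sel (ones 8) ip11 2) = true := by decide +kernel

theorem rot11_2r : band (Rule.ok (2 * 0) EX RL ⟨11 :: [11, 11], [], 4, false⟩) (lall (memL L) [11, 11]) = true := by decide +kernel

theorem rot11_3 : T.rot 11 [7, 11, 7] (sel (ones 8) ip11 3) = true := by decide +kernel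

theorem rot11_3r : band (Rule.ok (2 * 0) EX RL ⟨11 :: [7, 11, 7], [9], 9, false⟩) (lall (memL L) [7, 11, 7]) = true := by decide +kernel

theorem rot11_4 : T.rot 11 [8, 11, 8] (sel (ones 8) ip11 4) = true := by decide +kernel

theorem rot11_4r : band (Rule.ok (2 * 0) EX RL ⟨11 :: [8, 11, 8], [9], 13, false⟩) (lall (memL L) [8, 11, 8]) = true := by decide +kernel

theorem rot11_5 : T.rot 11 [9, 11, 9] (sel (ones 8) ip11 5) = true := by decide +kernel

theorem rot11_5r : band (Rule.ok (2 * 0) EX RL ⟨11 :: [9, 11, 9], [9], 16, false⟩) (lall (memL L) [9, 11, 9]) = true := by decide +kernel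

theorem rot11_6 : T.rot 11 [10, 11, 10] (sel (ones 8) ip11 6) = true := by decide +kernel

theorem rot11_6r : band (Rule.ok (2 * 0) EX RL ⟨11 :: [10, 11, 10], [9], 18, false⟩) (lall (memL L) [10, 11, 10]) = true := by decide +kernel

theorem rot11_7 : T.rot 11 [12, 11, 12] (sel (ones 8) ip11 7) = true := by decide +kernel

theorem rot11_7r : band (Rule.ok (2 * 0) EX RL ⟨11 :: [12, 11, 12], [], 20, false⟩) (lall (memL L) [12, 11, 12]) = true := by decide +kernel

theorem cov11 : T.cover 11 [(sel (ones 8) ip11 1), (sel (ones 8) ip11 2), (sel (ones 8) ip11 3), (sel (ones 8) ip11 4), (sel (ones 8) ip11 5), (sel (ones 8) ip11 6), (sel (ones 8) ip11 7)] = true := by decide +kernel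

theorem tl11 : T.treeLt 3 11 = true := by decide +kernel

theorem rot12_1 : T.rot 12 [6] (sel (ones 8) ip12 1) = true := by decide +kernel

theorem rot12_1r : band (Rule.ok (2 * 0) EX RL ⟨12 :: [6], [], 21, false⟩) (lall (memL L) [6]) = true := by decide +kernel

theorem rot12_2 : T.rot 12 [12, 12] (sel (ones 8) ip12 2) = true := by decide +kernel

theorem rot12_2r : band (Rule.ok (2 * 0) EX RL ⟨12 :: [12, 12], [], 5, false⟩) (lall (memL L) [12, 12]) = true := by decide +kernel

theorem rot12_3 : T.rot 12 [7, 12, 7] (sel (ones 8) ip12 3) = true := by decide +kernel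

theorem rot12_3r : band (Rule.ok (2 * 0) EX RL ⟨12 :: [7, 12, 7], [11], 10, false⟩) (lall (memL L) [7, 12, 7]) = true := by decide +kernel

theorem rot12_4 : T.rot 12 [8, 12, 8] (sel (ones 8) ip12 4) = true := by decide +kernel

theorem rot12_4r : band (Rule.ok (2 * 0) EX RL ⟨12 :: [8, 12, 8], [11], 14, false⟩) (lall (memL L) [8, 12, 8]) = true := by decide +kernel

theorem rot12_5 : T.rot 12 [9, 12, 9] (sel (ones 8) ip12 5) = true := by decide +kernel

theorem rot12_5r : band (Rule.ok (2 * 0) EX RL ⟨12 :: [9, 12, 9], [11], 17, false⟩) (lall (memL L) [9, 12, 9]) = true := by decide +kernel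

theorem rot12_6 : T.rot 12 [10, 12, 10] (sel (ones 8) ip12 6) = true := by decide +kernel

theorem rot12_6r : band (Rule.ok (2 * 0) EX RL ⟨12 :: [10, 12, 10], [11], 19, false⟩) (lall (memL L) [10, 12, 10]) = true := by decide +kernel

theorem rot12_7 : T.rot 12 [11, 12, 11] (sel (ones 8) ip12 7) = true := by decide +kernel

theorem rot12_7r : band (Rule.ok (2 * 0) EX RL ⟨12 :: [11, 12, 11], [11], 20, false⟩) (lall (memL L) [11, 12, 11]) = true := by decide +kernel

theorem cov12 : T.cover 12 [(sel (ones 8) ip12 1), (sel (ones 8) ip12 2), (sel (ones 8) ip12 3), (sel (ones 8) ip12 4), (sel (ones 8) ip12 5), (sel (ones 8) ip12 6), (sel (ones 8) ip12 7)] = true := by decide +kernel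

theorem tl12 : T.treeLt 3 12 = true := by decide +kernel

end Cfsg.Agent.Spor.An8
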