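import Cfsg.Agent.Spor.Cert
import Cfsg.Agent.Spor.An8.C0

set_option autoImplicit false
set_option maxRecDepth 100000000
set_option Elab.async false
set_option linter.unusedSectionVars false

namespace Cfsg.Agent.Spor.An8

theorem hT : T.Ok 3 := T.ok_of 3 (show AllP (fun n => Net.okb 3 n = true) [n0, n1, n2, n3, n4, n5] from AllP.cons ok0 (AllP.cons ok1 (AllP.cons ok2 (AllP.cons ok3 (AllP.cons ok4 (AllP.cons ok5 (AllP.nil)))))))

noncomputable def fP : ℕ → Equiv.Perm ℕ := T.fP gs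

theorem hsq : ∀ j < 0, j < 6 → T.fP gs j * T.fP gs j = 1 :=
  Tab.sq (show AllP (fun z => evA T.τ [z, z] = 1) [] from AllP.nil) 6 rfl

theorem hiv : IvOk (2 * 0) (atm 6 (T.fP gs)) := ivOk_atm hsq

theorem pz1 : PZ T (atm 6 (T.fP gs)) EX 1 := PZ.of_atom (y := 2 * 0) (by decide +kernel) (atm_two_mul _ (by decide))
theorem pz2 : PZ T (atm 6 (T.fP gs)) EX 2 := PZ.of_atom (y := 2 * 1) (by decide +kernel) (atm_two_mul _ (by decide))
theorem pz3 : PZ T (atm 6 (T.fP gs)) EX 3 := PZ.of_atom (y := 2 * 2) (by decide +kernel) (atm_two_mul _ (by decide))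
theorem pz4 : PZ T (atm 6 (T.fP gs)) EX 4 := PZ.of_atom (y := 2 * 3) (by decide +kernel) (atm_two_mul _ (by decide))
theorem pz5 : PZ T (atm 6 (T.fP gs)) EX 5 := PZ.of_atom (y := 2 * 4) (by decide +kernel) (atm_two_mul _ (by decide))
theorem pz6 : PZ T (atm 6 (T.fP gs)) EX 6 := PZ.of_atom (y := 2 * 5) (by decide +kernel) (atm_two_mul _ (by decide))
theorem pz7 : PZ T (atm 6 (T.fP gs)) EX 7 := PZ.of_inv hiv pz1 (by decide +kernel)
theorem pz8 : PZ T (atm 6 (T.fP gs)) EX 8 := PZ.of_inv hiv pz2 (by decide +kernel)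
theorem pz9 : PZ T (atm 6 (T.fP gs)) EX 9 := PZ.of_inv hiv pz3 (by decide +kernel)
theorem pz10 : PZ T (atm 6 (T.fP gs)) EX 10 := PZ.of_inv hiv pz4 (by decide +kernel)
theorem pz11 : PZ T (atm 6 (T.fP gs)) EX 11 := PZ.of_inv hiv pz5 (by decide +kernel)
theorem pz12 : PZ T (atm 6 (T.fP gs)) EX 12 := PZ.of_inv hiv pz6 (by decide +kernel)
theorem hPZ : AllP (PZ T (atm 6 (T.fP gs)) EX) L :=
  show AllP (PZ T (atm 6 (T.fP gs)) EX) [1, 2, 3, 4, 5, 6, 7, 8, 9, 10, 11, 12] from AllP.cons pz1 (AllP.cons pz2 (AllP.cons pz3 (AllP.cons pz4 (AllP.cons pz5 (AllP.cons pz6 (AllP.cons pz7 (AllP.cons pz8 (AllP.cons pz9 (AllP.cons pz10 (AllP.cons pz11 (AllP.cons pz12 (AllP.nil))))))))))))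

theorem hrel : ∀ l ∈ RL, ev (atm 6 (T.fP gs)) l = 1 :=
  relAll_sound hiv (W := [[1, 1, 1], [2, 2, 2], [3, 3, 3], [4, 4, 4], [5, 5, 5], [6, 6, 6], [2, 1, 2, 1], [3, 1, 3, 1], [4, 1, 4, 1], [5, 1, 5, 1], [6, 1, 6, 1], [3, 2, 3, 2], [4, 2, 4, 2], [5, 2, 5, 2], [6, 2, 6, 2], [4, 3, 4, 3], [5, 3, 5, 3], [6, 3, 6, 3], [5, 4, 5, 4], [6, 4, 6, 4], [6, 5, 6, 5]]) (rules := [⟨[1, 1, 1], [], 0, true⟩, ⟨[2, 2, 2], [], 1, true⟩, ⟨[3, 3, 3], [], 2, true⟩, ⟨[4, 4, 4], [], 3, true⟩, ⟨[5, 5, 5], [], 4, true⟩, ⟨[6, 6, 6], [], 5, true⟩, ⟨[2, 1, 2, 1], [], 6, true⟩, ⟨[3, 1, 3, 1], [], 7, true⟩, ⟨[4, 1, 4, 1], [], 8, true⟩, ⟨[5, 1, 5, 1], [], 9, true⟩, ⟨[6, 1, 6, 1], [], 10, true⟩, ⟨[3, 2, 3, 2], [], 11, true⟩, ⟨[4, 2, 4, 2], [], 12, true⟩, ⟨[5, 2, 5, 2], [], 13, true⟩, ⟨[6, 2, 6, 2], [], 14, true⟩, ⟨[4, 3, 4, 3], [], 15, true⟩, ⟨[5, 3, 5, 3], [], 16, true⟩, ⟨[6, 3, 6, 3], [], 17,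 true⟩, ⟨[5, 4, 5, 4], [], 18, true⟩, ⟨[6, 4, 6, 4], [], 19, true⟩, ⟨[6, 5, 6, 5], [], 20, true⟩]) hPZ (AllP.cons (hT.one rel0) (AllP.cons (hT.one rel1) (AllP.cons (hT.one rel2) (AllP.cons (hT.one rel3) (AllP.cons (hT.one rel4) (AllP.cons (hT.one rel5) (AllP.cons (hT.one rel6) (AllP.cons (hT.one rel7) (AllP.cons (hT.one rel8) (AllP.cons (hT.one rel9) (AllP.cons (hT.one rel10) (AllP.cons (hT.one rel11) (AllP.cons (hT.one rel12) (AllP.cons (hT.one rel13) (AllP.cons (hT.one rel14) (AllP.cons (hT.one rel15) (AllP.cons (hT.one rel16) (AllP.cons (hT.one rel17) (AllP.cons (hT.one rel18) (AllP.cons (hT.one rel19) (AllP.cons (hT.one rel20) (AllP.nil)))))))))))))))))))))) (by decide +kernel)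

section
variable {G : Type} [Group G] {a : ℕ → G} (hi : IvOk (2 * 0) a) (hR : ∀ r ∈ RL, ev a r = 1)
  {H : Subgroup G} (hb : ∀ z ∈ base, letV a EX z ∈ H)
include hi hR hb

theorem let1 : LetOk H (letV a EX) T L 1 :=
  LetOk.of' hT tl1 cov1 (AllP.cons (Just.rot hT hi hR rot1_1 rot1_1r) (AllP.cons (Just.rot hT hi hR rot1_2 rot1_2r) (AllP.cons (Just.rot hT hi hR rot1_3 rot1_3r) (AllP.cons (Just.rot hT hi hR rot1_4 rot1_4r) (AllP.cons (Just.rot hT hi hR rot1_5 rot1_5r) (AllP.cons (Just.rot hT hi hR rot1_6 rot1_6r) (AllP.cons (Just.rot hT hi hR rot1_7 rot1_7r) (AllP.cons (Just.base (hb 1 (by decide))) (AllP.nil)))))))))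
theorem let2 : LetOk H (letV a EX) T L 2 :=
  LetOk.of' hT tl2 cov2 (AllP.cons (Just.rot hT hi hR rot2_1 rot2_1r) (AllP.cons (Just.rot hT hi hR rot2_2 rot2_2r) (AllP.cons (Just.rot hT hi hR rot2_3 rot2_3r) (AllP.cons (Just.rot hT hi hR rot2_4 rot2_4r) (AllP.cons (Just.rot hT hi hR rot2_5 rot2_5r) (AllP.cons (Just.rot hT hi hR rot2_6 rot2_6r) (AllP.cons (Just.rot hT hi hR rot2_7 rot2_7r) (AllP.cons (Just.base (hb 2 (by decide))) (AllP.nil)))))))))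
theorem let3 : LetOk H (letV a EX) T L 3 :=
  LetOk.of' hT tl3 cov3 (AllP.cons (Just.rot hT hi hR rot3_1 rot3_1r) (AllP.cons (Just.rot hT hi hR rot3_2 rot3_2r) (AllP.cons (Just.rot hT hi hR rot3_3 rot3_3r) (AllP.cons (Just.rot hT hi hR rot3_4 rot3_4r) (AllP.cons (Just.rot hT hi hR rot3_5 rot3_5r) (AllP.cons (Just.rot hT hi hR rot3_6 rot3_6r) (AllP.cons (Just.rot hT hi hR rot3_7 rot3_7r) (AllP.cons (Just.base (hb 3 (by decide))) (AllP.nil)))))))))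
theorem let4 : LetOk H (letV a EX) T L 4 :=
  LetOk.of' hT tl4 cov4 (AllP.cons (Just.rot hT hi hR rot4_1 rot4_1r) (AllP.cons (Just.rot hT hi hR rot4_2 rot4_2r) (AllP.cons (Just.rot hT hi hR rot4_3 rot4_3r) (AllP.cons (Just.rot hT hi hR rot4_4 rot4_4r) (AllP.cons (Just.rot hT hi hR rot4_5 rot4_5r) (AllP.cons (Just.rot hT hi hR rot4_6 rot4_6r) (AllP.cons (Just.rot hT hi hR rot4_7 rot4_7r) (AllP.cons (Just.base (hb 4 (by decide))) (AllP.nil)))))))))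
theorem let5 : LetOk H (letV a EX) T L 5 :=
  LetOk.of' hT tl5 cov5 (AllP.cons (Just.rot hT hi hR rot5_1 rot5_1r) (AllP.cons (Just.rot hT hi hR rot5_2 rot5_2r) (AllP.cons (Just.rot hT hi hR rot5_3 rot5_3r) (AllP.cons (Just.rot hT hi hR rot5_4 rot5_4r) (AllP.cons (Just.rot hT hi hR rot5_5 rot5_5r) (AllP.cons (Just.rot hT hi hR rot5_6 rot5_6r) (AllP.cons (Just.rot hT hi hR rot5_7 rot5_7r) (AllP.cons (Just.base (hb 5 (by decide))) (AllP.nil)))))))))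
theorem let6 : LetOk H (letV a EX) T L 6 :=
  LetOk.of hT tl6 cov6 (AllP.cons (Just.rot hT hi hR rot6_1 rot6_1r) (AllP.cons (Just.rot hT hi hR rot6_2 rot6_2r) (AllP.cons (Just.rot hT hi hR rot6_3 rot6_3r) (AllP.cons (Just.rot hT hi hR rot6_4 rot6_4r) (AllP.cons (Just.rot hT hi hR rot6_5 rot6_5r) (AllP.cons (Just.rot hT hi hR rot6_6 rot6_6r) (AllP.cons (Just.rot hT hi hR rot6_7 rot6_7r) (AllP.nil))))))))
theorem let7 : LetOk H (letV a EX) T L 7 :=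
  LetOk.of hT tl7 cov7 (AllP.cons (Just.rot hT hi hR rot7_1 rot7_1r) (AllP.cons (Just.rot hT hi hR rot7_2 rot7_2r) (AllP.cons (Just.rot hT hi hR rot7_3 rot7_3r) (AllP.cons (Just.rot hT hi hR rot7_4 rot7_4r) (AllP.cons (Just.rot hT hi hR rot7_5 rot7_5r) (AllP.cons (Just.rot hT hi hR rot7_6 rot7_6r) (AllP.cons (Just.rot hT hi hR rot7_7 rot7_7r) (AllP.nil))))))))
theorem let8 : LetOk H (letV a EX) T L 8 :=
  LetOk.of hT tl8 cov8 (AllP.cons (Just.rot hT hi hR rot8_1 rot8_1r) (AllP.cons (Just.rot hT hi hR rot8_2 rot8_2r) (AllP.cons (Just.rot hT hi hR rot8_3 rot8_3r) (AllP.cons (Just.rot hT hi hR rot8_4 rot8_4r) (AllP.cons (Just.rot hT hi hR rot8_5 rot8_5r) (AllP.cons (Just.rot hT hi hR rot8_6 rot8_6r) (AllP.cons (Just.rot hT hi hR rot8_7 rot8_7r) (AllP.nil))))))))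
theorem let9 : LetOk H (letV a EX) T L 9 :=
  LetOk.of hT tl9 cov9 (AllP.cons (Just.rot hT hi hR rot9_1 rot9_1r) (AllP.cons (Just.rot hT hi hR rot9_2 rot9_2r) (AllP.cons (Just.rot hT hi hR rot9_3 rot9_3r) (AllP.cons (Just.rot hT hi hR rot9_4 rot9_4r) (AllP.cons (Just.rot hT hi hR rot9_5 rot9_5r) (AllP.cons (Just.rot hT hi hR rot9_6 rot9_6r) (AllP.cons (Just.rot hT hi hR rot9_7 rot9_7r) (AllP.nil))))))))
theorem let10 : LetOk H (letV a EX) T L 10 :=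
  LetOk.of hT tl10 cov10 (AllP.cons (Just.rot hT hi hR rot10_1 rot10_1r) (AllP.cons (Just.rot hT hi hR rot10_2 rot10_2r) (AllP.cons (Just.rot hT hi hR rot10_3 rot10_3r) (AllP.cons (Just.rot hT hi hR rot10_4 rot10_4r) (AllP.cons (Just.rot hT hi hR rot10_5 rot10_5r) (AllP.cons (Just.rot hT hi hR rot10_6 rot10_6r) (AllP.cons (Just.rot hT hi hR rot10_7 rot10_7r) (AllP.nil))))))))
theorem let11 : LetOk H (letV a EX) T L 11 :=
  LetOk.of hT tl11 cov11 (AllP.cons (Just.rot hT hi hR rot11_1 rot11_1r) (AllP.cons (Just.rot hT hi hR rot11_2 rot11_2r) (AllP.cons (Just.rot hT hi hR rot11_3 rot11_3r) (AllP.cons (Just.rot hT hi hR rot11_4 rot11_4r) (AllP.cons (Just.rot hT hi hR rot11_5 rot11_5r) (AllP.cons (Just.rot hT hi hR rot11_6 rot11_6r) (AllP.cons (Just.rot hT hi hR rot11_7 rot11_7r) (AllP.nil))))))))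
theorem let12 : LetOk H (letV a EX) T L 12 :=
  LetOk.of hT tl12 cov12 (AllP.cons (Just.rot hT hi hR rot12_1 rot12_1r) (AllP.cons (Just.rot hT hi hR rot12_2 rot12_2r) (AllP.cons (Just.rot hT hi hR rot12_3 rot12_3r) (AllP.cons (Just.rot hT hi hR rot12_4 rot12_4r) (AllP.cons (Just.rot hT hi hR rot12_5 rot12_5r) (AllP.cons (Just.rot hT hi hR rot12_6 rot12_6r) (AllP.cons (Just.rot hT hi hR rot12_7 rot12_7r) (AllP.nil))))))))
theorem hlet : AllP (LetOk H (letV a EX) T L) L :=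
  show AllP (LetOk H (letV a EX) T L) [1, 2, 3, 4, 5, 6, 7, 8, 9, 10, 11, 12] from AllP.cons (let1 hi hR hb) (AllP.cons (let2 hi hR hb) (AllP.cons (let3 hi hR hb) (AllP.cons (let4 hi hR hb) (AllP.cons (let5 hi hR hb) (AllP.cons (let6 hi hR hb) (AllP.cons (let7 hi hR hb) (AllP.cons (let8 hi hR hb) (AllP.cons (let9 hi hR hb) (AllP.cons (let10 hi hR hb) (AllP.cons (let11 hi hR hb) (AllP.cons (let12 hi hR hb) (AllP.nil))))))))))))
end

theorem cert : Cert 6 0 RL BW fP 8 :=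
  Cert.of hT ⟨hsq, hrel⟩ hPZ (fun _ _ _ hi hR _ hb => hlet hi hR hb) hcov hg (by decide +kernel)

end Cfsg.Agent.Spor.An8
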